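import Groth.Agent.Snapper.DimVanish
import Groth.Agent.OmegaPn.CohBase
import Groth.Agent.CurveCohLib.Proper
import Groth.Agent.RefX2.Extension
import Groth.Agent.QCoh.PushLin
import Groth.Agent.QCoh.Support
import Groth.Agent.SheafHomX.Coherent
import Groth.Agent.VarDim.Top
import Groth.Agent.BlowUpLib.Glue
import Groth.Agent.NagataLib.General
import Groth.Agent.S1571
import Groth.Agent.S0384

/-!
# Finiteness of top cohomology of a separated scheme of finite type over a field
-/

set_option autoImplicit false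
set_option linter.style.haveILetI false
set_option linter.unusedSectionVars false
set_option backward.isDefEq.respectTransparency false
set_option backward.isDefEq.respectTransparency.types false
set_option maxHeartbeats 800000

universe u
open CategoryTheory CategoryTheory.Limits AlgebraicGeometry TopologicalSpace
open Groth.Agent.PnCoh.Finite (mapLin)

noncomputable section

namespace Groth.Agent.TopDegFinite

/-- A compactification with affine dense inclusion. -/
theorem exists_affine_compactification {k : Type u} [Field k] {X : Scheme.{u}}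
    (f : X ⟶ Spec (CommRingCat.of k)) [IsSeparated f] [LocallyOfFiniteType f] [QuasiCompact f] :
    ∃ (Y : Scheme.{u}) (p : Y ⟶ Spec (CommRingCat.of k)) (j : X ⟶ Y), IsProper p ∧ IsOpenImmersion j ∧
      IsAffineHom j ∧ DenseRange j.base ∧ j ≫ p = f := by
  obtain ⟨Xc, j, g, hj, hjq, hg, hjg⟩ := S0384.result f
  haveI : IsLocallyNoetherian Xc := LocallyOfFiniteType.isLocallyNoetherian g
  let Z : Closeds Xc := ⟨(j.opensRange : Set Xc)ᶜ, j.opensRange.2.isClosed_compl⟩
  let C := Scheme.IdealSheafData.vanishingIdeal Z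
  obtain ⟨Y, b, hb⟩ := BlowUpLib.exists_blowUp (C := C)
  haveI : IsProper b := BlowUpLib.isProper_of_isBlowUp C hb fun U => by
    haveI := IsLocallyNoetherian.component_noetherian (X := Xc) U
    exact IsNoetherian.noetherian _
  have hC : ModPair.interior C = j.opensRange := by
    ext x
    simp [ModPair.interior, C, Z, Scheme.IdealSheafData.coe_support_vanishingIdeal]
  haveI : IsIso (b ∣_ j.opensRange) := BlowUpLib.isIso_restrict hb _ hC.ge
  obtain ⟨haff, hdom⟩ := S1571.result Y (C.comap b) hb.1
  have hV : b ⁻¹ᵁ j.opensRange = ((C.comap b).support.compl : Y.Opens) := by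
    ext y
    simp [C, Z, Scheme.IdealSheafData.support_comap, Scheme.IdealSheafData.coe_support_vanishingIdeal]
  let V := b ⁻¹ᵁ j.opensRange
  haveI : IsAffineHom V.ι := by rw [show V = _ from hV]; exact haff
  have hdense : DenseRange V.ι.base := by
    haveI : IsSchemeTheoreticallyDominant V.ι := by rw [show V = _ from hV]; exact hdom
    haveI : IsLocallyNoetherian Y := LocallyOfFiniteType.isLocallyNoetherian b
    haveI : CompactSpace Xc := QuasiCompact.compactSpace_of_compactSpace g
    haveI : CompactSpace Y := QuasiCompact.compactSpace_of_compactSpace b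
    haveI : IsDominant V.ι := inferInstance
    exact V.ι.denseRange
  let e : X ⟶ (j.opensRange : Xc.Opens) := j.isoOpensRange.hom
  refine ⟨Y, b ≫ g, e ≫ inv (b ∣_ j.opensRange) ≫ V.ι, inferInstance, inferInstance, inferInstance, ?_, ?_⟩
  · intro y
    refine closure_mono ?_ (hdense y)
    rintro _ ⟨v, rfl⟩
    refine ⟨(e ≫ inv (b ∣_ j.opensRange)).homeomorph.symm v, ?_⟩
    change (e ≫ inv (b ∣_ j.opensRange) ≫ V.ι) _ = V.ι v
    rw [← Category.assoc, Scheme.Hom.comp_apply]
    exact congrArg _ ((e ≫ inv (b ∣_ j.opensRange)).homeomorph.apply_symm_apply v)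
  · have h1 : V.ι ≫ b = (b ∣_ j.opensRange) ≫ j.opensRange.ι := (morphismRestrict_ι _ _).symm
    simp only [e, V, Category.assoc] at h1 ⊢
    rw [reassoc_of% h1, IsIso.inv_hom_id_assoc, Scheme.Hom.isoOpensRange_hom_ι_assoc, hjg]

/-- Every point specializes from a point of a dense open subset. -/
theorem exists_generization_mem {Y : Scheme.{u}} [IsNoetherian Y] {U : Set Y} (hU : IsOpen U) (hd : Dense U) (y : Y) :
    ∃ η ∈ U, η ⤳ y := by
  obtain ⟨η, hη⟩ := QuasiSober.sober (S := irreducibleComponent y) isIrreducible_irreducibleComponent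
    isClosed_irreducibleComponent
  obtain ⟨o, ho, hne, hsub⟩ := NoetherianSpace.exists_isOpen_nonempty_subset_irreducibleComponent (irreducibleComponent y)
    (irreducibleComponent_mem_irreducibleComponents y)
  obtain ⟨z, hzo, hzU⟩ := hd.inter_open_nonempty o ho hne
  exact ⟨η, (hη.specializes (hsub hzo)).mem_open hU hzU, hη.specializes mem_irreducibleComponent⟩

theorem main (k : Type u) [Field k] (X : Scheme.{u}) [X.Over (Spec (CommRingCat.of k))]
    [IsSeparated (X ↘ Spec (CommRingCat.of k))] [LocallyOfFiniteType (X ↘ Spec (CommRingCat.of k))]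
    [QuasiCompact (X ↘ Spec (CommRingCat.of k))]
    (F : X.Modules) (hF : Coh.IsCoh F) (d : ℕ) (hd : topologicalKrullDim X ≤ d) :
    Module.Finite k (Coh.HH X F d) := by
  obtain ⟨Y, p, j, hp, hj, hja, hjd, hjp⟩ := exists_affine_compactification (X ↘ Spec (CommRingCat.of k))
  letI : Y.Over (Spec (CommRingCat.of k)) := ⟨p⟩
  haveI : IsProper (Y ↘ Spec (CommRingCat.of k)) := hp
  haveI : IsNoetherian Y := CurveCohLib.isNoetherian_of_proper (k := k)
  haveI : Y.IsSeparated := ⟨by
    rw [← terminal.comp_from (Y ↘ Spec (CommRingCat.of k))]; infer_instance⟩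
  haveI : LocallyOfFiniteType p := inferInstance
  let U := j.opensRange
  let h : X ⟶ U.toScheme := j.isoOpensRange.hom
  have hh : h ≫ U.ι = j := Scheme.Hom.isoOpensRange_hom_ι j
  haveI : IsIso h := by unfold h; infer_instance
  haveI : IsFinite h := inferInstance
  obtain ⟨G, hG, ⟨eG⟩⟩ := RefX2.exists_coh_extension U (QCoh.isCoh_pushforward_finite (M := F) h hF)
  obtain ⟨K, I, Q, a, b, c, d', w, w', hS, hS', hK, hI, hQ, -, -, hQs⟩ := Snapper.exists_res_sequences U hG.1
  -- dimensions
  have hdeg : ∀ y : Y, VarDim.deg p y ≤ d ∧ (y ∉ U → VarDim.deg p y < d) := fun y => by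
    obtain ⟨η, hηU, hηy⟩ := exists_generization_mem U.2 (by simpa [U, DenseRange] using hjd) y
    obtain ⟨x, hx⟩ := hηU
    haveI : LocallyOfFiniteType (j ≫ p) := by rw [hjp]; infer_instance
    have h1 : VarDim.deg p η ≤ d := by
      rw [← hx, ← VarDim.deg_comp p j x]
      have h2 : ((VarDim.deg (j ≫ p) x : ℕ∞) : WithBot ℕ∞) ≤ d := by
        refine le_trans ?_ hd
        rw [VarDim.topologicalKrullDim_eq_iSup_deg (j ≫ p)]
        exact le_iSup (fun x : X => ((VarDim.deg (j ≫ p) x : ℕ∞) : WithBot ℕ∞)) x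
      exact_mod_cast h2
    refine ⟨(VarDim.deg_le_of_specializes p hηy).trans h1, fun hy => lt_of_lt_of_le ?_ h1⟩
    letI := specializationPreorder Y
    exact VarDim.deg_strictMono p (lt_iff_le_not_ge.2 ⟨hηy, fun h' => hy (h'.mem_open U.2 ⟨x, hx⟩)⟩)
  have hdimY : topologicalKrullDim Y ≤ d := by
    rw [VarDim.topologicalKrullDim_eq_iSup_deg p]
    exact iSup_le fun y => by exact_mod_cast (hdeg y).1
  have hQd : Subsingleton (Coh.HH Y Q d) := by
    refine Snapper.subsingleton_HH_of_dim_lt d ⟨(U : Set Y)ᶜ, U.2.isClosed_compl⟩ ?_ Q hQ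
      (fun y hy => (hQs hy).2) d le_rfl
    change topologicalKrullDim ((U : Set Y)ᶜ : Set Y) < _
    rw [VarDim.topologicalKrullDim_set_eq_iSup_deg p (show IsClosed (U : Set Y)ᶜ from U.2.isClosed_compl)]
    rcases isEmpty_or_nonempty ((U : Set Y)ᶜ : Set Y) with he | ⟨⟨z⟩⟩
    · rw [iSup_of_empty]
      exact WithBot.bot_lt_coe _
    · have h1 : d ≠ 0 := fun h0 => by have := (hdeg z.1).2 z.2; omega
      refine lt_of_le_of_lt (b := ((d - 1 : ℕ) : WithBot ℕ∞)) (iSup_le fun y => ?_) ?_
      · have := (hdeg y.1).2 y.2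
        exact WithBot.coe_le_coe.2 (ENat.coe_le_coe.2 (show VarDim.deg p y.1 ≤ d - 1 by omega))
      · exact_mod_cast (show d - 1 < d by omega)
  have hKd : Subsingleton (Coh.HH Y K (d + 1)) := Snapper.subsingleton_HH_of_dim_le hdimY hK (Nat.lt_succ_self d)
  have hsb : Function.Surjective (mapLin k b d) := OmegaPn.surjective_g k hS d hKd
  have hsc : Function.Surjective (mapLin k c d) := fun x => by
    have hx : x ∈ LinearMap.ker (mapLin k d' d) := LinearMap.mem_ker.2 (hQd.elim _ _)
    rw [CurveCohLib.ker_mapLin_g k hS' d] at hx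
    exact hx
  haveI := CurveCohLib.finite_HH (k := k) hG d
  haveI : Module.Finite k (Coh.HH Y I d) := Module.Finite.of_surjective _ hsb
  haveI : Module.Finite k (Coh.HH Y ((Scheme.Modules.pushforward U.ι).obj (G.restrict U.ι)) d) :=
    Module.Finite.of_surjective _ hsc
  let e : (Scheme.Modules.pushforward U.ι).obj (G.restrict U.ι) ≅ (Coh.push j).obj F :=
    (Scheme.Modules.pushforward U.ι).mapIso eG ≪≫ (Scheme.Modules.pushforwardComp h U.ι).app F ≪≫
      (Scheme.Modules.pushforwardCongr hh).app F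
  haveI : Module.Finite k (Coh.HH Y ((Coh.push j).obj F) d) :=
    Module.Finite.equiv (OmegaPn.HHiso k e d)
  obtain ⟨l⟩ := QCoh.HH_push_linear j (Coh.toGlobal (Y ↘ Spec (CommRingCat.of k)))
    (Coh.toGlobal (X ↘ Spec (CommRingCat.of k))) (fun a => by rw [← hjp]; rfl) hF.1 d
  exact Module.Finite.equiv l.symm

end Groth.Agent.TopDegFinite
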